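import Groth.Agent.Lib.Lang21.Dominant
import Groth.Agent.Lib.InvRing21.Points
import Mathlib.FieldTheory.Finite.Basic

/-!
# Lang's theorem on points over an algebraically closed field
-/

set_option autoImplicit false
set_option linter.style.haveILetI false
set_option backward.isDefEq.respectTransparency.types false
universe u

open CategoryTheory CategoryTheory.Limits MonoidalCategory CartesianMonoidalCategory MonObj AlgebraicGeometry
open scoped TensorProduct

noncomputable section

namespace Groth.Agent.Lang21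

variable {k : Type u} [Field k] {G : Over (Spec (CommRingCat.of k))}

attribute [local instance] InvRing21.gamAlg

/-- A smooth connected affine group stays integral over every extension field. -/
theorem isDomain_tensor [GrpObj G] [IsAffine G.left] [Smooth G.hom] [ConnectedSpace G.left]
    (K : Type u) [Field K] [Algebra k K] : IsDomain (K ⊗[k] Γ(G.left, ⊤)) := by
  haveI := AbRigid.geometricallyReduced_of_smooth G.hom
  haveI := AbRigid.geometricallyIntegral_of_connected G
  let A := Γ(G.left, ⊤)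
  have hw : G.left.isoSpec.inv ≫ G.hom = Spec.map (CommRingCat.ofHom (algebraMap k A)) := Over.w (InvRing21.uPt G)
  have h : IsPullback (Spec.map (CommRingCat.ofHom (algebraMap A (A ⊗[k] K))))
      (Spec.map (CommRingCat.ofHom (Algebra.TensorProduct.includeRight (R := k) (A := A) (B := K)).toRingHom))
      (Spec.map (CommRingCat.ofHom (algebraMap k A))) (Spec.map (CommRingCat.ofHom (algebraMap k K))) := by
    refine IsPullback.of_iso (IsPullback.of_hasPullback _ _) (pullbackSpecIso k A K) (Iso.refl _) (Iso.refl _)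
      (Iso.refl _) ?_ ?_ (by simp) (by simp)
    · rw [Iso.refl_hom, Category.comp_id, pullbackSpecIso_hom_fst']
    · rw [Iso.refl_hom, Category.comp_id]
      exact (pullbackSpecIso_hom_snd k A K).symm
  have h' : IsPullback (Spec.map (CommRingCat.ofHom (algebraMap A (A ⊗[k] K))) ≫ G.left.isoSpec.inv)
      (Spec.map (CommRingCat.ofHom (Algebra.TensorProduct.includeRight (R := k) (A := A) (B := K)).toRingHom))
      G.hom (Spec.map (CommRingCat.ofHom (algebraMap k K))) :=
    IsPullback.of_iso h (Iso.refl _) G.left.isoSpec.symm (Iso.refl _) (Iso.refl _) (by simp) (by simp)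
      (by simp [hw]) (by simp)
  haveI : IsIntegral (Spec (CommRingCat.of (A ⊗[k] K))) :=
    GeometricallyIntegral.geometrically_isIntegral _ _ _ h'
  haveI : IsDomain (A ⊗[k] K) := (affine_isIntegral_iff (CommRingCat.of (A ⊗[k] K))).1 inferInstance
  exact (Algebra.TensorProduct.comm k K A).toMulEquiv.isDomain _

variable [IsAffine G.left]

/-- Points are determined by their values. -/
theorem pt_ext {B : Type u} [CommRing B] [Algebra k B] {p q : VecGrp.pt k B ⟶ G}
    (h : InvRing21.val p = InvRing21.val q) : p = q := by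
  rw [← InvRing21.ptMap_val p, h, InvRing21.ptMap_val]

variable [GrpObj G]

/-- The values of a product lie in the algebra generated by the values of the factors. -/
theorem val_mul_mem {B : Type u} [CommRing B] [Algebra k B] (S : Subalgebra k B) (p q : VecGrp.pt k B ⟶ G)
    (hp : ∀ f, InvRing21.val p f ∈ S) (hq : ∀ f, InvRing21.val q f ∈ S) (f : Γ(G.left, ⊤)) :
    InvRing21.val (p * q) f ∈ S := by
  have key : ∀ (r : VecGrp.pt k B ⟶ G) (hr : ∀ f, InvRing21.val r f ∈ S),
      r = VecGrp.ptMap S.val ≫ VecGrp.ptMap ((InvRing21.val r).codRestrict S hr) ≫ InvRing21.uPt G := fun r hr => by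
    rw [← Category.assoc, InvRing21.ptMap_comp, AlgHom.val_comp_codRestrict, InvRing21.ptMap_val]
  rw [key p hp, key q hq, ← MonObj.comp_mul, InvRing21.val_ptMap]
  exact SetLike.coe_mem _

variable [Finite k] (F : G ⟶ G) (hF : ∀ s : Γ(G.left, ⊤), F.left.appTop s = s ^ Nat.card k)

include hF in
/-- The Frobenius of `G` is a homomorphism on points. -/
theorem frob_mul {B : Type u} [CommRing B] [Algebra k B] (p q : VecGrp.pt k B ⟶ G) :
    (p * q) ≫ F = (p ≫ F) * (q ≫ F) := by
  haveI := Fintype.ofFinite k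
  have key : ∀ r : VecGrp.pt k B ⟶ G, r ≫ F = VecGrp.ptMap (FiniteField.frobeniusAlgHom k B) ≫ r := fun r =>
    pt_ext (AlgHom.ext fun f => by
      rw [InvRing21.val_ptMap, ← InvRing21.appTop_val, hF, map_pow, AlgHom.comp_apply, Nat.card_eq_fintype_card]
      rfl)
  rw [key, key, key, MonObj.comp_mul]

include hF in
set_option maxHeartbeats 1000000 in
/-- For each point `b` the map `x ↦ x b F(x)⁻¹` hits every point off a hypersurface. -/
theorem exists_open [Smooth G.hom] [ConnectedSpace G.left] (K : Type u) [Field K] [Algebra k K] [IsAlgClosed K]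
    (b : VecGrp.pt k K ⟶ G) : ∃ c : K ⊗[k] Γ(G.left, ⊤), c ≠ 0 ∧ ∀ ψ : K ⊗[k] Γ(G.left, ⊤) →ₐ[K] K, ψ c ≠ 0 →
      ∃ x : VecGrp.pt k K ⟶ G, x * b * (x ≫ F)⁻¹ = VecGrp.ptMap (ψ.restrictScalars k) ≫ InvRing21.xPt G K := by
  haveI := Fintype.ofFinite k
  haveI := InvRing21.finiteType_gam G
  haveI := isDomain_tensor (G := G) K
  have hq : ((Nat.card k : ℕ) : K) = 0 := by
    rw [Nat.card_eq_fintype_card, ← map_natCast (algebraMap k K), FiniteField.cast_card_eq_zero, map_zero]
  let x₀ := InvRing21.xPt G K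
  let g := x₀ * InvRing21.gPt b * (x₀ ≫ F)⁻¹
  let l : (K ⊗[k] Γ(G.left, ⊤)) →ₐ[K] (K ⊗[k] Γ(G.left, ⊤)) :=
    Algebra.TensorProduct.lift (Algebra.ofId K (K ⊗[k] Γ(G.left, ⊤))) (InvRing21.val g) fun _ _ => mul_comm _ _
  have hgen : Algebra.adjoin K (Set.range l ∪ Set.range fun a : (K ⊗[k] Γ(G.left, ⊤)) => a ^ Nat.card k) = ⊤ := by
    set S := Algebra.adjoin K (Set.range l ∪ Set.range fun a : (K ⊗[k] Γ(G.left, ⊤)) => a ^ Nat.card k)
    have hg : ∀ f, InvRing21.val g f ∈ S.restrictScalars k := fun f => by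
      refine Algebra.subset_adjoin (Or.inl ⟨(1 : K) ⊗ₜ f, ?_⟩)
      rw [Algebra.TensorProduct.lift_tmul, map_one, _root_.one_mul]
    have hx : ∀ f, InvRing21.val (x₀ ≫ F) f ∈ S.restrictScalars k := fun f => by
      rw [← InvRing21.appTop_val, hF, map_pow]
      exact Algebra.subset_adjoin (Or.inr ⟨_, rfl⟩)
    have hval : ∀ f, InvRing21.val (x₀ * InvRing21.gPt b) f ∈ S := fun f => by
      have := val_mul_mem (S.restrictScalars k) g (x₀ ≫ F) hg hx f
      rwa [show g * (x₀ ≫ F) = x₀ * InvRing21.gPt b from inv_mul_cancel_right _ _] at this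
    refine eq_top_iff.2 fun w _ => ?_
    obtain ⟨v, rfl⟩ := (InvRing21.trEquiv b).surjective w
    induction v using TensorProduct.induction_on with
    | zero => rw [map_zero]; exact zero_mem _
    | tmul c f =>
      show InvRing21.tr b (c ⊗ₜ f) ∈ S
      rw [InvRing21.tr_tmul]
      exact mul_mem (S.algebraMap_mem c) (hval f)
    | add x y hx hy => rw [map_add]; exact add_mem (hx trivial) (hy trivial)
  obtain ⟨c, hc, hψ⟩ := exists_open_range l (injective_of_gen l _ hq hgen)
  refine ⟨c, hc, fun ψ h => ?_⟩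
  obtain ⟨χ, hχ⟩ := hψ ψ h
  refine ⟨VecGrp.ptMap (χ.restrictScalars k) ≫ x₀, ?_⟩
  have h1 : VecGrp.ptMap (χ.restrictScalars k) ≫ InvRing21.gPt b = b := by
    rw [InvRing21.gPt, ← Category.assoc, InvRing21.ptMap_comp,
      show (χ.restrictScalars k).comp (Algebra.TensorProduct.includeLeft : K →ₐ[k] (K ⊗[k] Γ(G.left, ⊤))) = AlgHom.id k K from
        AlgHom.ext fun d => χ.commutes d]
    exact pt_ext (by rw [InvRing21.val_ptMap, AlgHom.id_comp])
  have h2 : VecGrp.ptMap (χ.restrictScalars k) ≫ g = VecGrp.ptMap (ψ.restrictScalars k) ≫ InvRing21.xPt G K := by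
    refine pt_ext (AlgHom.ext fun f => ?_)
    rw [InvRing21.val_ptMap, InvRing21.val_ptMap, InvRing21.xPt, InvRing21.val_ptMap, InvRing21.val_uPt, ← hχ]
    show χ (InvRing21.val g f) = χ (l (1 ⊗ₜ f))
    rw [Algebra.TensorProduct.lift_tmul, map_one, _root_.one_mul]
  rw [← h2, MonObj.comp_mul, MonObj.comp_mul, h1, GrpObj.comp_inv, Category.assoc]

include hF in
/-- Lang's theorem on points over an algebraically closed extension. -/
theorem exists_lang [Smooth G.hom] [ConnectedSpace G.left] (K : Type u) [Field K] [Algebra k K] [IsAlgClosed K]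
    (a : VecGrp.pt k K ⟶ G) : ∃ z : VecGrp.pt k K ⟶ G, z * (z ≫ F)⁻¹ = a := by
  haveI := Fintype.ofFinite k
  haveI := InvRing21.finiteType_gam G
  haveI := isDomain_tensor (G := G) K
  let AK := K ⊗[k] Γ(G.left, ⊤)
  obtain ⟨c, hc, hcm⟩ := exists_open F hF K a
  obtain ⟨c', hc', hcm'⟩ := exists_open F hF K 1
  haveI : IsReduced AK := inferInstance
  obtain ⟨ψ, hψ⟩ := UnitsRos.exists_point_ne_zero (k := K) (mul_ne_zero hc hc')
  rw [map_mul, mul_ne_zero_iff] at hψ
  obtain ⟨x, hx⟩ := hcm ψ hψ.1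
  obtain ⟨y, hy⟩ := hcm' ψ hψ.2
  refine ⟨x⁻¹ * y, ?_⟩
  have hinv : x⁻¹ ≫ F = (x ≫ F)⁻¹ := by
    refine eq_inv_of_mul_eq_one_left ?_
    rw [← frob_mul F hF, inv_mul_cancel]
    have h1 := frob_mul F hF (1 : VecGrp.pt k K ⟶ G) 1
    rw [_root_.one_mul] at h1
    exact left_eq_mul.1 h1
  rw [frob_mul F hF, hinv]
  have e : x * a * (x ≫ F)⁻¹ = y * (y ≫ F)⁻¹ := by rw [hx, ← hy, _root_.mul_one]
  calc x⁻¹ * y * ((x ≫ F)⁻¹ * (y ≫ F))⁻¹ = x⁻¹ * (y * (y ≫ F)⁻¹) * (x ≫ F) := by group
    _ = a := by rw [← e]; group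

end Groth.Agent.Lang21
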