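import Groth.Agent.Lib.InvRing21.OpenImage
import Groth.Agent.Lib.InvRing21.Regular
import Groth.Agent.Lib.AbRigid.Connected
import Groth.Agent.Lib.AbRigid.SmoothGI
import Mathlib.RingTheory.Unramified.Finite
import Mathlib.RingTheory.AlgebraicIndependent.TranscendenceBasis
import Mathlib.RingTheory.Ideal.GoingUp
import Mathlib.RingTheory.Kaehler.Basic
import Mathlib.AlgebraicGeometry.Geometrically.Integral

/-!
# Endomorphisms of affine varieties which are unramified are dominant

The algebra behind Lang's theorem: if an endomorphism `l` of a finitely generated domain `A` over a field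
is such that its image and the `q`-th powers generate `A`, for an integer `q` vanishing in the field, then
it is injective, so over an algebraically closed field its image on points contains a nonempty open set.
-/

set_option autoImplicit false
universe u

open CategoryTheory CategoryTheory.Limits AlgebraicGeometry
open scoped TensorProduct

namespace Groth.Agent.Lang21

variable {K A : Type u} [Field K] [CommRing A] [Algebra K A] [IsDomain A] [Algebra.FiniteType K A]

/-- If the image of `l` and the `q`-th powers generate, then everything is algebraic over the image. -/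
theorem isAlgebraic_range (l : A →ₐ[K] A) (q : ℕ) (hq : (q : K) = 0)
    (hgen : Algebra.adjoin K (Set.range l ∪ Set.range fun a : A => a ^ q) = ⊤) :
    Algebra.IsAlgebraic l.range A := by
  let R := l.range
  haveI : Algebra.FiniteType R A := Algebra.FiniteType.of_restrictScalars_finiteType K R A
  have hqA : (q : A) = 0 := by rw [← map_natCast (algebraMap K A), hq, map_zero]
  haveI : Algebra.FormallyUnramified R A := by
    refine ⟨?_⟩
    have hD : ∀ a : A, KaehlerDifferential.D R A a = 0 := fun a => by
      have ha : a ∈ Algebra.adjoin K (Set.range l ∪ Set.range fun a : A => a ^ q) := hgen ▸ trivial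
      induction ha using Algebra.adjoin_induction with
      | mem x hx =>
        rcases hx with ⟨b, rfl⟩ | ⟨b, rfl⟩
        · exact (KaehlerDifferential.D R A).map_algebraMap (⟨l b, b, rfl⟩ : R)
        · rw [Derivation.leibniz_pow, ← Nat.cast_smul_eq_nsmul A, hqA, zero_smul]
      | algebraMap c => exact (KaehlerDifferential.D R A).map_algebraMap (algebraMap K R c)
      | add x y _ _ hx hy => rw [map_add, hx, hy, add_zero]
      | mul x y _ _ hx hy => rw [Derivation.leibniz, hx, hy, smul_zero, smul_zero, add_zero]
    refine subsingleton_of_forall_eq 0 fun w => ?_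
    have hw : w ∈ Submodule.span A (Set.range (KaehlerDifferential.D R A)) := by
      rw [KaehlerDifferential.span_range_derivation]; trivial
    induction hw using Submodule.span_induction with
    | mem x hx => obtain ⟨a, rfl⟩ := hx; exact hD a
    | zero => rfl
    | add x y _ _ hx hy => rw [hx, hy, add_zero]
    | smul a x _ hx => rw [hx, smul_zero]
  let F := FractionRing R
  let L := FractionRing A
  letI : Algebra F L := FractionRing.liftAlgebra R L
  haveI : IsScalarTower R F L := FractionRing.isScalarTower_liftAlgebra R L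
  haveI : Algebra.FormallyUnramified A L := Algebra.FormallyUnramified.of_isLocalization (nonZeroDivisors A)
  haveI : Algebra.FormallyUnramified R L := Algebra.FormallyUnramified.comp R A L
  haveI : Algebra.FormallyUnramified F L := Algebra.FormallyUnramified.of_restrictScalars R F L
  haveI : Algebra.EssFiniteType A L := Algebra.EssFiniteType.of_isLocalization L (nonZeroDivisors A)
  haveI : Algebra.EssFiniteType R L := Algebra.EssFiniteType.comp R A L
  haveI : Algebra.EssFiniteType F L := Algebra.EssFiniteType.of_comp R F L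
  haveI : Module.Finite F L := Algebra.FormallyUnramified.finite_of_free F L
  refine ⟨fun a => ?_⟩
  haveI : Algebra.IsAlgebraic F L := Algebra.IsAlgebraic.of_finite F L
  have h1 : IsAlgebraic F (algebraMap A L a) := Algebra.IsAlgebraic.isAlgebraic _
  rw [← IsFractionRing.isAlgebraic_iff R F L] at h1
  exact (isAlgebraic_algebraMap_iff (IsFractionRing.injective A L)).1 h1

/-- An endomorphism whose image and the `q`-th powers generate is injective. -/
theorem injective_of_gen (l : A →ₐ[K] A) (q : ℕ) (hq : (q : K) = 0)
    (hgen : Algebra.adjoin K (Set.range l ∪ Set.range fun a : A => a ^ q) = ⊤) :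
    Function.Injective l := by
  let R := l.range
  haveI := isAlgebraic_range l q hq hgen
  haveI : FaithfulSMul K R := (faithfulSMul_iff_algebraMap_injective K R).2 (algebraMap K R).injective
  obtain ⟨s, hs⟩ := exists_isTranscendenceBasis K R
  choose z hz using fun i : s => i.1.2
  have hv : IsTranscendenceBasis K (algebraMap R A ∘ ((↑) : s → R)) := hs.algebraMap_comp
  have hcomp : (l ∘ z : s → A) = algebraMap R A ∘ ((↑) : s → R) := funext fun i => hz i
  have hzind : AlgebraicIndependent K z := AlgebraicIndependent.of_comp l (hcomp ▸ hv.1)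
  have hzb : IsTranscendenceBasis K z :=
    hzind.isTranscendenceBasis_of_trdeg_le trdeg_lt_aleph0_of_finiteType (hv.cardinalMk_eq_trdeg).ge
  rw [injective_iff_map_eq_zero]
  intro c hc
  by_contra hc0
  haveI := hzb.isAlgebraic
  have hne := Ideal.comap_ne_bot_of_algebraic_mem (R := Algebra.adjoin K (Set.range z)) hc0
    (RingHom.mem_ker.2 hc : c ∈ RingHom.ker l.toRingHom) (Algebra.IsAlgebraic.isAlgebraic c)
  obtain ⟨e, he, he0⟩ := Submodule.exists_mem_ne_zero_of_ne_bot hne
  obtain ⟨p, hp⟩ : ∃ p, MvPolynomial.aeval z p = e.1 := by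
    exact AlgHom.mem_range _ |>.1 ((Algebra.adjoin_range_eq_range_aeval K z).le e.2)
  have hl : l e.1 = 0 := he
  rw [← hp, ← AlgHom.comp_apply, MvPolynomial.comp_aeval] at hl
  have hp0 : p = 0 := hv.1.eq_zero_of_aeval_eq_zero p (by rw [← hcomp]; exact hl)
  refine he0 (Subtype.ext ?_)
  rw [← hp, hp0, map_zero]
  rfl

/-- Over an algebraically closed field the image on points of an injective endomorphism contains a nonempty
principal open set. -/
theorem exists_open_range [IsAlgClosed K] (l : A →ₐ[K] A) (hl : Function.Injective l) :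
    ∃ c : A, c ≠ 0 ∧ ∀ ψ : A →ₐ[K] K, ψ c ≠ 0 → ∃ χ : A →ₐ[K] K, χ.comp l = ψ := by
  let R := l.range
  let e' : A ≃ₐ[K] R := AlgEquiv.ofInjective l hl
  haveI : Algebra.FiniteType R A := Algebra.FiniteType.of_restrictScalars_finiteType K R A
  obtain ⟨f, hf, hopen⟩ := InvRing21.exists_isOpen_image (R := R) (S := A)
  obtain ⟨U, hUo, hin, hout⟩ := hopen 1
  let q₀ : PrimeSpectrum A := ⟨⊥, Ideal.isPrime_bot⟩
  have hUne := hin q₀ (fun h => hf (Subtype.ext (Ideal.mem_bot.1 h))) (fun h => one_ne_zero (Ideal.mem_bot.1 h))
  obtain ⟨_, ⟨c, rfl⟩, hc, hcU⟩ := PrimeSpectrum.isTopologicalBasis_basic_opens.exists_subset_of_mem_open hUne hUo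
  refine ⟨e'.symm c, fun h => hc ?_, fun ψ hψ => ?_⟩
  · rw [show c = 0 from e'.symm.injective (h.trans (map_zero _).symm)]
    exact zero_mem _
  let ψ' : R →ₐ[K] K := ψ.comp e'.symm.toAlgHom
  obtain ⟨q, -, hq⟩ := hout ⟨RingHom.ker ψ'.toRingHom, RingHom.ker_isPrime _⟩ (hcU fun h => hψ h)
  obtain ⟨M, hM, hqM⟩ := q.asIdeal.exists_le_maximal q.isPrime.ne_top
  haveI := hM
  letI : Field (A ⧸ M) := Ideal.Quotient.field M
  haveI : Algebra.FiniteType K (A ⧸ M) :=
    Algebra.FiniteType.of_surjective (Ideal.Quotient.mkₐ K M) Ideal.Quotient.mk_surjective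
  haveI : Module.Finite K (A ⧸ M) := finite_of_finite_type_of_isJacobsonRing K (A ⧸ M)
  let e : K ≃ₐ[K] A ⧸ M := AlgEquiv.ofBijective (Algebra.ofId K _)
    ⟨(algebraMap K (A ⧸ M)).injective, IsAlgClosed.algebraMap_bijective_of_isIntegral.2⟩
  refine ⟨e.symm.toAlgHom.comp (Ideal.Quotient.mkₐ K M), AlgHom.ext fun x => ?_⟩
  have hx : e' x - algebraMap K R (ψ x) ∈ (PrimeSpectrum.comap (algebraMap R A) q).asIdeal := by
    rw [hq]
    show ψ' (e' x - algebraMap K R (ψ x)) = 0
    rw [map_sub, AlgHom.commutes, Algebra.algebraMap_self, RingHom.id_apply, sub_eq_zero]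
    exact congrArg ψ (e'.symm_apply_apply x)
  have hxM : l x - algebraMap K A (ψ x) ∈ M := hqM hx
  rw [← Ideal.Quotient.eq] at hxM
  show e.symm (Ideal.Quotient.mk M (l x)) = ψ x
  rw [hxM, AlgEquiv.symm_apply_eq]
  rfl

end Groth.Agent.Lang21
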